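import Groth.Agent.HenselChart.Lift
import Groth.Agent.AlgSpLib.Atlas
import Groth.Agent.AlgSpLib.FpqcRep
import Groth.Agent.SpQS.MonoPt
import Mathlib.AlgebraicGeometry.Morphisms.FlatMono

/-!
# Etale charts lifting all points over quotients of a henselian local ring
-/

set_option autoImplicit false
set_option backward.isDefEq.respectTransparency false
set_option backward.isDefEq.respectTransparency.types false
set_option linter.style.haveILetI false

universe u

open CategoryTheory CategoryTheory.Limits AlgebraicGeometry IsLocalRing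

namespace Groth.Agent.HenselChart

open _root_.AlgSp Groth.Agent.AlgSpLib

variable {S : Scheme.{u}}

/-- a map out of a disjoint union of schemes is etale if it is so on the summands -/
theorem repWith_etale_sigma {X : Sp S} (hX : IsAlgSpace X) {ι : Type u} {A : ι → Scheme.{u}} (f : ∀ i, A i ⟶ S)
    (L : (yon S).obj (Over.mk (Sigma.desc f)) ⟶ X) (h : ∀ i, RepWith @Etale ((yon S).map (sigmaInj f i) ≫ L)) :
    RepWith @Etale L := by
  refine ⟨hX.representable_from_yon L, fun T P ξ a b sq => ?_⟩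
  obtain ⟨a, rfl⟩ := exists_map_eq a
  refine (IsZariskiLocalAtSource.iff_of_openCover (P := @Etale)
    ((sigmaOpenCover A).pullback₁ a.left)).2 fun (i : ι) => ?_
  show Etale (pullback.fst a.left (Sigma.ι A i) ≫ b.left)
  let Q : Over S := Over.mk (pullback.fst a.left (Sigma.ι A i) ≫ P.hom)
  let u : Q ⟶ Over.mk (f i) := Over.homMk (pullback.snd a.left (Sigma.ι A i)) (by
    show pullback.snd a.left (Sigma.ι A i) ≫ f i = pullback.fst a.left (Sigma.ι A i) ≫ P.hom
    rw [← Over.w a]
    refine Eq.trans ?_ (pullback.condition_assoc (Sigma.desc f)).symm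
    rw [Sigma.ι_desc])
  let v : Q ⟶ P := Over.homMk (pullback.fst a.left (Sigma.ι A i)) rfl
  have sq₁ : IsPullback u.left v.left (sigmaInj f i).left a.left := (IsPullback.of_hasPullback _ _).flip
  exact (repWith_yon_iff (v ≫ b)).1 (repWith_baseChange
    (show IsPullback ((yon S).map u) ((yon S).map (v ≫ b)) ((yon S).map (sigmaInj f i) ≫ L) ξ from by
      rw [Functor.map_comp]
      exact (isPullback_yon_iff.2 sq₁).paste_vert sq) (h i))

/-- disjoint unions of separated schemes are separated -/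
theorem isSeparated_sigma_desc {ι : Type u} {A : ι → Scheme.{u}} (f : ∀ i, A i ⟶ S)
    (h : ∀ i, IsSeparated (f i)) : IsSeparated (Sigma.desc f) := by
  set F := Sigma.desc f
  have hopen : IsOpen (Set.range (pullback.diagonal F))ᶜ := by
    refine isOpen_iff_forall_mem_open.2 fun w hw => ?_
    obtain ⟨i, a, ha⟩ := (sigmaOpenCover A).exists_eq (pullback.fst F F w)
    obtain ⟨j, b, hb⟩ := (sigmaOpenCover A).exists_eq (pullback.snd F F w)
    have hN : IsOpen (pullback.fst F F ⁻¹' Set.range (Sigma.ι A i) ∩ pullback.snd F F ⁻¹' Set.range (Sigma.ι A j)) :=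
      ((Sigma.ι A i).isOpenEmbedding.isOpen_range.preimage (pullback.fst F F).continuous).inter
        ((Sigma.ι A j).isOpenEmbedding.isOpen_range.preimage (pullback.snd F F).continuous)
    have hΔ : ∀ x, pullback.fst F F (pullback.diagonal F x) = x ∧ pullback.snd F F (pullback.diagonal F x) = x :=
      fun x => ⟨by rw [← Scheme.Hom.comp_apply, pullback.diagonal_fst]; rfl,
        by rw [← Scheme.Hom.comp_apply, pullback.diagonal_snd]; rfl⟩
    by_cases hij : i = j
    · subst hij
      haveI := h i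
      let M : pullback (f i) (f i) ⟶ pullback F F :=
        pullback.map _ _ _ _ (Sigma.ι A i) (Sigma.ι A i) (𝟙 S) (by rw [Category.comp_id, Sigma.ι_desc])
          (by rw [Category.comp_id, Sigma.ι_desc])
      have hM : pullback.diagonal (f i) ≫ M = Sigma.ι A i ≫ pullback.diagonal F := by
        apply pullback.hom_ext <;> simp [M]
      have hwM : w ∈ Set.range M := by
        rw [Scheme.Pullback.range_map]
        exact ⟨⟨a, ha⟩, ⟨b, hb⟩⟩
      obtain ⟨w', rfl⟩ := hwM
      have hMo : Topology.IsOpenEmbedding M := M.isOpenEmbedding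
      refine ⟨M '' (Set.range (pullback.diagonal (f i)))ᶜ, ?_,
        hMo.isOpenMap _ (pullback.diagonal (f i)).isClosedEmbedding.isClosed_range.isOpen_compl, w', ?_, rfl⟩
      · rintro - ⟨v, hv, rfl⟩ ⟨x, hx⟩
        have : pullback.fst F F (M v) ∈ Set.range (Sigma.ι A i) := by
          rw [← Scheme.Hom.comp_apply, pullback.lift_fst, Scheme.Hom.comp_apply]
          exact ⟨_, rfl⟩
        rw [← hx, (hΔ x).1] at this
        obtain ⟨y, rfl⟩ := this
        refine hv ⟨y, hMo.injective ?_⟩
        rw [← Scheme.Hom.comp_apply, hM, Scheme.Hom.comp_apply, hx]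
      · rintro ⟨y, rfl⟩
        exact hw ⟨Sigma.ι A i y, by rw [← Scheme.Hom.comp_apply, ← hM, Scheme.Hom.comp_apply]⟩
    · refine ⟨_, ?_, hN, ⟨a, ha⟩, ⟨b, hb⟩⟩
      rintro v ⟨h₁, h₂⟩ ⟨x, rfl⟩
      rw [Set.mem_preimage, (hΔ x).1] at h₁
      rw [Set.mem_preimage, (hΔ x).2] at h₂
      obtain ⟨y, hy⟩ := h₁
      obtain ⟨y', hy'⟩ := h₂
      exact hij (congrArg Sigma.fst ((sigmaι_eq_iff A i j y y').1 (hy.trans hy'.symm)))
  exact ⟨.of_isPreimmersion _ (isOpen_compl_iff.1 hopen)⟩

/-- the points over a field of an algebraic space form a small set -/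
theorem exists_small_points {X : Sp S} (hX : IsAlgSpace X) (k : Type u) [Field k]
    (str : Spec (CommRingCat.of k) ⟶ S) :
    ∃ (ι : Type u) (x : ι → ((yon S).obj (Over.mk str) ⟶ X)), Function.Surjective x := by
  classical
  obtain ⟨U, p, hp, hps⟩ := hX.atlas
  let q : Over S := Over.mk str
  let Ω := AlgebraicClosure k
  let ω : Spec (CommRingCat.of Ω) ⟶ Spec (CommRingCat.of k) := Spec.map (CommRingCat.ofHom (algebraMap k Ω))
  let K : Over S := Over.mk (ω ≫ str)
  let j : K ⟶ q := Over.homMk ω rfl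
  have huniq : ∀ x x' : (yon S).obj q ⟶ X, (yon S).map j ≫ x = (yon S).map j ≫ x' → x = x' := by
    intro x x' e
    obtain ⟨V, fst, snd, sq⟩ := exists_isPullback_of_representable hX.diag (prod.lift x x')
    haveI : Mono ((yon S).map snd) := PullbackCone.mono_snd_of_is_pullback_of_mono sq.isLimit
    haveI : Mono snd := (yon S).mono_of_mono_map inferInstance
    haveI : Mono snd.left := mono_left snd
    obtain ⟨l, hl⟩ := exists_map_eq (sq.lift ((yon S).map j ≫ x) ((yon S).map j) (by
      apply prod.hom_ext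
      · simp
      · simpa using e))
    have hl' : l ≫ snd = j := (yon S).map_injective (by rw [Functor.map_comp, hl, sq.lift_snd])
    haveI : Subsingleton ↥(Spec (CommRingCat.of k)) := inferInstanceAs (Subsingleton (PrimeSpectrum k))
    let s : V.left ⟶ Spec (CommRingCat.of k) := snd.left
    haveI : Mono s := ‹Mono snd.left›
    haveI : Subsingleton ↥V.left := ⟨fun a b => s.injective (Subsingleton.elim _ _)⟩
    haveI : Surjective s := ⟨fun y => ⟨l.left (closedPoint Ω), Subsingleton.elim _ _⟩⟩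
    haveI : CompactSpace ↥V.left := Finite.compactSpace
    haveI : QuasiCompact s := HasAffineProperty.iff_of_isAffine.mpr ‹_›
    haveI : IsIso ((Over.forget S).map snd) := Flat.isIso_of_surjective_of_mono s
    haveI : IsIso snd := isIso_of_reflects_iso snd (Over.forget S)
    have h := sq.w
    have h₁ := congrArg (· ≫ Limits.prod.fst) h
    have h₂ := congrArg (· ≫ Limits.prod.snd) h
    simp only [Category.assoc, prod.lift_fst, prod.lift_snd] at h₁ h₂
    rw [← cancel_epi ((yon S).map snd), ← h₁, ← h₂]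
  refine ⟨{u : K ⟶ U // ∃ x₀ : (yon S).obj q ⟶ X, (yon S).map u ≫ p = (yon S).map j ≫ x₀},
    fun u => u.2.choose, fun x₀ => ?_⟩
  obtain ⟨W, w₁, w₂, sq, hw₂⟩ := hX.exists_chart_pullback hp x₀
  haveI : Etale w₂.left := hw₂
  haveI : Surjective w₂.left := hps.2 x₀ _ w₂ sq
  obtain ⟨w, hw⟩ := w₂.left.surjective (ω (closedPoint Ω))
  obtain ⟨l, hl, -⟩ := exists_lift_at w₂.left ω hw
  let lK : K ⟶ W := Over.homMk l (by
    show l ≫ W.hom = ω ≫ str
    rw [← Over.w w₂, ← Category.assoc, hl]
    rfl)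
  have hlK : lK ≫ w₂ = j := Over.OverMorphism.ext hl
  have h : (yon S).map (lK ≫ w₁) ≫ p = (yon S).map j ≫ x₀ := by
    rw [Functor.map_comp, Category.assoc, sq.w, ← Category.assoc, ← Functor.map_comp, hlK]
  exact ⟨⟨lK ≫ w₁, x₀, h⟩, huniq _ _ ((Exists.choose_spec (⟨x₀, h⟩ : ∃ y, _ = (yon S).map j ≫ y)).symm.trans h)⟩

variable (R : Type u) [CommRing R] [HenselianLocalRing R] (str : Spec (CommRingCat.of R) ⟶ S)

/-- lifting into a chart from the residue field -/
theorem exists_chart_lift_point {X : Sp S} (hX : IsAlgSpace X) {Z : Over S} [IsAffine Z.left]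
    {p : (yon S).obj Z ⟶ X} (hp : RepWith @Etale p) (x : (yon S).obj (Over.mk str) ⟶ X)
    (g : Over.mk (Spec.map (CommRingCat.ofHom (residue R)) ≫ str) ⟶ Z)
    (hg : (yon S).map g ≫ p = (yon S).map (Over.homMk (Spec.map (CommRingCat.ofHom (residue R))) rfl :
      Over.mk (Spec.map (CommRingCat.ofHom (residue R)) ≫ str) ⟶ Over.mk str) ≫ x) :
    ∃ h : Over.mk str ⟶ Z, (yon S).map h ≫ p = x := by
  haveI := etST_smooth
  have hf : LocP @Smooth p := (locP_iff_repWith etST_smooth hX hp.1).2
    (repWith_mono (fun _ _ m hm => have : Etale m := hm; (inferInstance : Smooth m)) hp)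
  obtain ⟨z, hz, -⟩ := exists_lift_smooth R str (IsAlgSpace.yon_obj Z) hX p hf (maximalIdeal R)
    (maximalIdeal.isMaximal R).ne_top x ((yon S).map g) hg
  obtain ⟨h, rfl⟩ := exists_map_eq z
  exact ⟨h, hz⟩

/-- a family of affine etale charts lifting all points over quotients -/
theorem exists_chart_family {X : Sp S} (hX : IsAlgSpace X) {ι : Type u}
    (x : ι → ((yon S).obj (Over.mk (Spec.map (CommRingCat.ofHom (residue R)) ≫ str)) ⟶ X))
    (hx : Function.Surjective x) :
    ∃ (Z : ι → Scheme.{u}) (f : ∀ i, Z i ⟶ S) (p : (yon S).obj (Over.mk (Sigma.desc f)) ⟶ X),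
      (∀ i, IsAffine (Z i)) ∧ RepWith @Etale p ∧
        ∀ (a : Ideal R) (y : (yon S).obj (Over.mk (Spec.map (CommRingCat.ofHom (Ideal.Quotient.mk a)) ≫ str)) ⟶ X),
          ∃ g : Over.mk (Spec.map (CommRingCat.ofHom (Ideal.Quotient.mk a)) ≫ str) ⟶ Over.mk (Sigma.desc f),
            (yon S).map g ≫ p = y := by
  choose Z p g hZ hp hg using fun i => exists_affine_chart_lift (ResidueField R)
    (Spec.map (CommRingCat.ofHom (residue R)) ≫ str) hX (x i)
  let f : ∀ i, (Z i).left ⟶ S := fun i => (Z i).hom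
  obtain ⟨L, hL⟩ := exists_sigma_hom (F := X) f p
  refine ⟨fun i => (Z i).left, f, L, hZ, repWith_etale_sigma hX f L fun i => by rw [hL]; exact hp i, fun a y => ?_⟩
  by_cases ha : a = ⊤
  · subst ha
    haveI : Subsingleton (R ⧸ (⊤ : Ideal R)) := Ideal.Quotient.subsingleton_iff.2 rfl
    haveI : IsEmpty ↥(Spec (CommRingCat.of (R ⧸ (⊤ : Ideal R)))) := inferInstanceAs (IsEmpty (PrimeSpectrum _))
    haveI : IsEmpty (Over.mk (Spec.map (CommRingCat.ofHom (Ideal.Quotient.mk (⊤ : Ideal R))) ≫ str)).left := ‹_›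
    haveI := subsingleton_hom_of_isEmpty (F := X)
      (W := Over.mk (Spec.map (CommRingCat.ofHom (Ideal.Quotient.mk (⊤ : Ideal R))) ≫ str))
    exact ⟨Over.homMk (isInitialOfIsEmpty.to _) (isInitialOfIsEmpty.hom_ext _ _), Subsingleton.elim _ _⟩
  haveI : Nontrivial (R ⧸ a) := Ideal.Quotient.nontrivial_iff.2 ha
  haveI : IsLocalRing (R ⧸ a) := .of_surjective' (Ideal.Quotient.mk a) Ideal.Quotient.mk_surjective
  haveI : HenselianLocalRing (R ⧸ a) := Groth.Agent.Hensel.henselianLocalRing_finite R (R ⧸ a)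
  haveI : IsLocalHom (Ideal.Quotient.mk a) := IsLocalHom.of_surjective _ Ideal.Quotient.mk_surjective
  let φ : ResidueField R →+* ResidueField (R ⧸ a) := ResidueField.map (Ideal.Quotient.mk a)
  have hφ : Function.Bijective φ := ⟨φ.injective, fun z => by
    obtain ⟨z, rfl⟩ := residue_surjective z
    obtain ⟨r, rfl⟩ := Ideal.Quotient.mk_surjective z
    exact ⟨residue R r, rfl⟩⟩
  let E := RingEquiv.ofBijective φ hφ
  let T : Over S := Over.mk (Spec.map (CommRingCat.ofHom (Ideal.Quotient.mk a)) ≫ str)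
  let q : Over S := Over.mk (Spec.map (CommRingCat.ofHom (residue R)) ≫ str)
  have hEr : (residue (R ⧸ a)).comp (Ideal.Quotient.mk a) = (E : ResidueField R →+* ResidueField (R ⧸ a)).comp (residue R) :=
    RingHom.ext fun r => rfl
  let qa : Over S := Over.mk (Spec.map (CommRingCat.ofHom (residue (R ⧸ a))) ≫
    Spec.map (CommRingCat.ofHom (Ideal.Quotient.mk a)) ≫ str)
  let e : qa ⟶ q := Over.homMk (Spec.map (CommRingCat.ofHom (E : ResidueField R →+* ResidueField (R ⧸ a)))) (by
    show Spec.map _ ≫ Spec.map _ ≫ str = Spec.map _ ≫ Spec.map _ ≫ str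
    rw [← Category.assoc, ← Category.assoc, ← Spec.map_comp, ← Spec.map_comp]
    exact congrArg (fun m => Spec.map m ≫ str) (CommRingCat.hom_ext hEr.symm))
  let e' : q ⟶ qa := Over.homMk (Spec.map (CommRingCat.ofHom (E.symm : ResidueField (R ⧸ a) →+* ResidueField R))) (by
    show Spec.map _ ≫ Spec.map _ ≫ Spec.map _ ≫ str = Spec.map _ ≫ str
    rw [← Category.assoc, ← Category.assoc, ← Spec.map_comp, ← Spec.map_comp]
    exact congrArg (fun m => Spec.map m ≫ str) (CommRingCat.hom_ext (RingHom.ext fun r => E.symm_apply_apply (residue R r))))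
  have hee : e ≫ e' = 𝟙 qa := Over.OverMorphism.ext (by
    show Spec.map _ ≫ Spec.map _ = 𝟙 _
    rw [← Spec.map_comp, ← Spec.map_id]
    exact congrArg Spec.map (CommRingCat.hom_ext (RingHom.ext fun r => E.apply_symm_apply r)))
  let j : qa ⟶ T := Over.homMk (Spec.map (CommRingCat.ofHom (residue (R ⧸ a)))) rfl
  obtain ⟨i, hi⟩ := hx ((yon S).map (e' ≫ j) ≫ y)
  haveI := hZ i
  obtain ⟨h, hh⟩ := exists_chart_lift_point (R ⧸ a) (Spec.map (CommRingCat.ofHom (Ideal.Quotient.mk a)) ≫ str) hX
    (hp i) y (e ≫ g i) (by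
      refine (congrArg (· ≫ p i) ((yon S).map_comp e (g i))).trans ((Category.assoc _ _ _).trans ?_)
      refine (congrArg ((yon S).map e ≫ ·) ((hg i).trans hi)).trans ((Category.assoc _ _ _).symm.trans ?_)
      refine (congrArg (· ≫ y) ((yon S).map_comp e (e' ≫ j)).symm).trans ?_
      exact congrArg (fun m => (yon S).map m ≫ y)
        ((Category.assoc e e' j).symm.trans ((congrArg (· ≫ j) hee).trans (Category.id_comp j))))
  exact ⟨h ≫ sigmaInj f i, by rw [Functor.map_comp, Category.assoc, hL, hh]⟩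

end Groth.Agent.HenselChart
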