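import Mathlib.AlgebraicGeometry.AlgClosed.Basic
import Groth.Agent.TwConst.Henselian
import Groth.Agent.EtaleSections.Finite
import Groth.Agent.UnivInjMor.MonoUnram

/-!
# Geometric sheets of an etale morphism over the closed point
-/

set_option autoImplicit false
set_option backward.isDefEq.respectTransparency false
set_option backward.isDefEq.respectTransparency.types false

universe u

open CategoryTheory CategoryTheory.Limits AlgebraicGeometry IsLocalRing

namespace Groth.Agent.HenselChart

/-- geometric points lift through etale morphisms to any point over their image -/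
theorem exists_lift_at {A B : Scheme.{u}} (h : A ⟶ B) [Etale h] {Ω : Type u} [Field Ω] [IsAlgClosed Ω]
    (g : Spec (CommRingCat.of Ω) ⟶ B) {x : A} (hx : h x = g (closedPoint Ω)) :
    ∃ l : Spec (CommRingCat.of Ω) ⟶ A, l ≫ h = g ∧ l (closedPoint Ω) = x := by
  obtain ⟨z, hz, -⟩ := Scheme.Pullback.exists_preimage_pullback (f := h) (g := g) x (closedPoint Ω) hx
  have : LocallyQuasiFinite (pullback.snd h g) := UnivInjMor.lqf_of_unramified _
  have hzc : IsClosed ({z} : Set ↥(pullback h g)) := by
    have hd := (pullback.snd h g).isDiscrete_preimage_singleton (closedPoint Ω)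
    rw [show pullback.snd h g ⁻¹' {closedPoint Ω} = Set.univ from
      Set.eq_univ_of_forall fun _ => Subsingleton.elim (α := PrimeSpectrum Ω) _ _] at hd
    have : DiscreteTopology ↥(Set.univ : Set ↥(pullback h g)) := isDiscrete_iff_discreteTopology.1 hd
    have : DiscreteTopology ↥(pullback h g) := (Homeomorph.Set.univ _).symm.isEmbedding.discreteTopology
    exact isClosed_discrete _
  refine ⟨pointOfClosedPoint (pullback.snd h g) z hzc ≫ pullback.fst h g, ?_, ?_⟩
  · rw [Category.assoc, pullback.condition, pointOfClosedPoint_comp_assoc]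
  · rw [Scheme.Hom.comp_apply, pointOfClosedPoint_apply, hz]

/-- lifts of a geometric point through an etale morphism at a given point are finitely many -/
theorem finite_lifts {A B : Scheme.{u}} (h : A ⟶ B) [Etale h] [IsSeparated h] [IsAffine B] (x : A)
    {Ω : Type u} [Field Ω] (g : Spec (CommRingCat.of Ω) ⟶ B) :
    Finite {l : Spec (CommRingCat.of Ω) ⟶ A // l ≫ h = g ∧ l (closedPoint Ω) = x} := by
  obtain ⟨U, hU, hxU, -⟩ := exists_isAffineOpen_mem_and_subset (U := ⊤) (x := x) trivial
  have : IsAffine U.toScheme := hU
  have := (EtaleSections.finite_hom (U.ι ≫ h) g).to_subtype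
  have key : ∀ l : {l : Spec (CommRingCat.of Ω) ⟶ A // l ≫ h = g ∧ l (closedPoint Ω) = x},
      Set.range l.1 ⊆ Set.range U.ι := by
    rintro l - ⟨t, rfl⟩
    rw [Scheme.Opens.range_ι, Subsingleton.elim (α := PrimeSpectrum Ω) t (closedPoint Ω), l.2.2]
    exact hxU
  refine Finite.of_injective (β := {f : Spec (CommRingCat.of Ω) ⟶ U.toScheme | f ≫ U.ι ≫ h = g})
    (fun l => ⟨IsOpenImmersion.lift U.ι l.1 (key l), show _ ≫ U.ι ≫ h = g by
      rw [IsOpenImmersion.lift_fac_assoc]; exact l.2.1⟩) fun l l' e => Subtype.ext ?_
  have := congrArg (fun f => f.1 ≫ U.ι) e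
  simpa using this

/-- in an etale local neighbourhood, the point over the closed point is the closed point -/
theorem eq_closedPoint {R : Type u} [CommRing R] [HenselianLocalRing R] {A : CommRingCat.{u}} [IsLocalRing A]
    (h : Spec A ⟶ Spec (CommRingCat.of R)) [IsFinite h] (hc : h (closedPoint A) = closedPoint R)
    (x : ↥(Spec A)) (hx : h x = closedPoint R) : x = closedPoint A :=
  TwConst.eq_of_specializes h (hx.trans hc.symm) (IsLocalRing.specializes_closedPoint (R := A) x)

/-- every point of a scheme finite over a local ring specializes to the closed fibre -/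
theorem exists_specializes_closed {R : Type u} [CommRing R] [IsLocalRing R] {P : Scheme.{u}}
    (h : P ⟶ Spec (CommRingCat.of R)) [IsFinite h] (w : P) :
    ∃ w' : P, w ⤳ w' ∧ h w' = closedPoint R := by
  have hcl : IsClosed (h '' closure {w}) := h.isClosedMap _ isClosed_closure
  have h1 : closedPoint R ∈ h '' closure {w} :=
    (IsLocalRing.specializes_closedPoint (R := R) (h w)).mem_closed hcl ⟨w, subset_closure rfl, rfl⟩
  obtain ⟨w', hw', he⟩ := h1
  exact ⟨w', specializes_iff_mem_closure.2 hw', he⟩

end Groth.Agent.HenselChart
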