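import Groth.Agent.HenselChart.Space
import Groth.Agent.AlgSpLib.LocP
import Groth.Agent.Hensel.Smooth
import Groth.Agent.Hensel.Ops
import Groth.Agent.Hensel.Local

/-!
# Lifting points of smooth algebraic spaces over henselian local rings
-/

set_option autoImplicit false
set_option backward.isDefEq.respectTransparency false
set_option backward.isDefEq.respectTransparency.types false
set_option linter.style.haveILetI false

universe u

open CategoryTheory CategoryTheory.Limits AlgebraicGeometry IsLocalRing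

namespace Groth.Agent.HenselChart

open _root_.AlgSp Groth.Agent.AlgSpLib

variable (R : Type u) [CommRing R] [HenselianLocalRing R]

/-- sections of affine schemes smooth over a henselian local ring lift from quotients -/
theorem exists_section_lift {Z : Scheme.{u}} [IsAffine Z] (f : Z ⟶ Spec (CommRingCat.of R)) [Smooth f]
    (a : Ideal R) (ha : a ≠ ⊤) (s₀ : Spec (CommRingCat.of (R ⧸ a)) ⟶ Z)
    (hs : s₀ ≫ f = Spec.map (CommRingCat.ofHom (Ideal.Quotient.mk a))) :
    ∃ s : Spec (CommRingCat.of R) ⟶ Z, s ≫ f = 𝟙 _ ∧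
      Spec.map (CommRingCat.ofHom (Ideal.Quotient.mk a)) ≫ s = s₀ := by
  let φ := Spec.preimage (Z.isoSpec.inv ≫ f)
  let ψ := Spec.preimage (s₀ ≫ Z.isoSpec.hom)
  haveI : Smooth (Spec.map φ) := by
    rw [Spec.map_preimage]
    infer_instance
  have hφ : φ.hom.Smooth := (HasRingHomProperty.Spec_iff (P := @Smooth)).1 inferInstance
  have hψ : φ ≫ ψ = CommRingCat.ofHom (Ideal.Quotient.mk a) := Spec.map_injective (by
    rw [Spec.map_comp, Spec.map_preimage, Spec.map_preimage, Category.assoc, Iso.hom_inv_id_assoc]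
    exact hs)
  letI : Algebra R Γ(Z, ⊤) := φ.hom.toAlgebra
  haveI : Algebra.Smooth R Γ(Z, ⊤) := hφ
  haveI : HenselianRing R (maximalIdeal R) := inferInstance
  haveI : HenselianRing R a := Groth.Agent.Hensel.henselianRing_mono (J := maximalIdeal R) (le_maximalIdeal ha)
  let σ₀ : Γ(Z, ⊤) →ₐ[R] R ⧸ a :=
    { (show (Γ(Z, ⊤) : Type u) →+* R ⧸ a from ψ.hom) with
      commutes' := fun r => congrArg (fun g : CommRingCat.of R ⟶ CommRingCat.of (R ⧸ a) => g.hom r) hψ }
  obtain ⟨τ, hτ⟩ := Groth.Agent.Hensel.exists_smooth_lift Γ(Z, ⊤) σ₀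
  refine ⟨Spec.map (CommRingCat.ofHom τ.toRingHom) ≫ Z.isoSpec.inv, ?_, ?_⟩
  · rw [Category.assoc, ← Spec.map_preimage (Z.isoSpec.inv ≫ f), ← Spec.map_comp, ← Spec.map_id]
    congr 1
    exact CommRingCat.hom_ext (RingHom.ext fun r => τ.commutes r)
  · rw [← Category.assoc, ← Spec.map_comp]
    have : CommRingCat.ofHom τ.toRingHom ≫ CommRingCat.ofHom (Ideal.Quotient.mk a) = ψ :=
      CommRingCat.hom_ext (RingHom.ext hτ)
    rw [this, Spec.map_preimage, Category.assoc, Iso.hom_inv_id, Category.comp_id]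

variable {S : Scheme.{u}} (str : Spec (CommRingCat.of R) ⟶ S)

/-- points over quotients of smooth algebraic spaces over a henselian local ring lift -/
theorem exists_lift {P : Sp S} (hP : IsAlgSpace P) (π : P ⟶ (yon S).obj (Over.mk str))
    (hsm : ∀ (Z : Over S) (p : (yon S).obj Z ⟶ P) (h : Z ⟶ Over.mk str),
      RepWith @Etale p → p ≫ π = (yon S).map h → Smooth h.left)
    (a : Ideal R) (ha : a ≠ ⊤)
    (y₀ : (yon S).obj (Over.mk (Spec.map (CommRingCat.ofHom (Ideal.Quotient.mk a)) ≫ str)) ⟶ P)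
    (hy : y₀ ≫ π = (yon S).map (Over.homMk (Spec.map (CommRingCat.ofHom (Ideal.Quotient.mk a))) rfl :
      Over.mk (Spec.map (CommRingCat.ofHom (Ideal.Quotient.mk a)) ≫ str) ⟶ Over.mk str)) :
    ∃ y : (yon S).obj (Over.mk str) ⟶ P, y ≫ π = 𝟙 _ ∧
      (yon S).map (Over.homMk (Spec.map (CommRingCat.ofHom (Ideal.Quotient.mk a))) rfl :
        Over.mk (Spec.map (CommRingCat.ofHom (Ideal.Quotient.mk a)) ≫ str) ⟶ Over.mk str) ≫ y = y₀ := by
  haveI : Nontrivial (R ⧸ a) := Ideal.Quotient.nontrivial_iff.2 ha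
  haveI : IsLocalRing (R ⧸ a) := .of_surjective' (Ideal.Quotient.mk a) Ideal.Quotient.mk_surjective
  haveI : HenselianLocalRing (R ⧸ a) := Groth.Agent.Hensel.henselianLocalRing_finite R (R ⧸ a)
  obtain ⟨Z, p, g, hZ, hp, hg⟩ := exists_affine_chart_lift (R ⧸ a) _ hP y₀
  obtain ⟨h, hh⟩ := exists_map_eq (p ≫ π)
  haveI := hsm Z p h hp hh.symm
  haveI := hZ
  have hgh : g ≫ h = Over.homMk (Spec.map (CommRingCat.ofHom (Ideal.Quotient.mk a))) rfl :=
    (yon S).map_injective (by rw [Functor.map_comp, hh, ← Category.assoc, hg, hy])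
  obtain ⟨s, hs₁, hs₂⟩ := exists_section_lift R h.left a ha g.left (congrArg (fun m => m.left) hgh)
  let σ : Over.mk str ⟶ Z := Over.homMk s (by
    show s ≫ Z.hom = str
    rw [← Over.w h, ← Category.assoc, hs₁]
    exact Category.id_comp str)
  refine ⟨(yon S).map σ ≫ p, ?_, ?_⟩
  · rw [Category.assoc, ← hh, ← Functor.map_comp, ← CategoryTheory.Functor.map_id]
    exact congrArg _ (Over.OverMorphism.ext hs₁)
  · rw [← Category.assoc, ← Functor.map_comp, ← hg]
    exact congrArg (fun m => (yon S).map m ≫ p) (Over.OverMorphism.ext hs₂)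

/-- lifting along smooth morphisms of algebraic spaces -/
theorem exists_lift_smooth {Z X : Sp S} (hZ : IsAlgSpace Z) (hX : IsAlgSpace X) (f : Z ⟶ X)
    (hf : LocP @Smooth f) (a : Ideal R) (ha : a ≠ ⊤) (z : (yon S).obj (Over.mk str) ⟶ X)
    (z₀ : (yon S).obj (Over.mk (Spec.map (CommRingCat.ofHom (Ideal.Quotient.mk a)) ≫ str)) ⟶ Z)
    (w : z₀ ≫ f = (yon S).map (Over.homMk (Spec.map (CommRingCat.ofHom (Ideal.Quotient.mk a))) rfl :
        Over.mk (Spec.map (CommRingCat.ofHom (Ideal.Quotient.mk a)) ≫ str) ⟶ Over.mk str) ≫ z) :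
    ∃ z' : (yon S).obj (Over.mk str) ⟶ Z, z' ≫ f = z ∧
      (yon S).map (Over.homMk (Spec.map (CommRingCat.ofHom (Ideal.Quotient.mk a))) rfl :
        Over.mk (Spec.map (CommRingCat.ofHom (Ideal.Quotient.mk a)) ≫ str) ⟶ Over.mk str) ≫ z' = z₀ := by
  have sq := IsPullback.of_hasPullback f z
  have hP : IsAlgSpace (pullback f z) := isAlgSpace_of_isPullback_space hX hZ (IsAlgSpace.yon_obj _) sq
  have hπ := locP_baseChange etST_smooth hZ hX hP (IsAlgSpace.yon_obj _) sq hf
  obtain ⟨y, hy₁, hy₂⟩ := exists_lift R str hP (pullback.snd f z)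
    (fun W p h hp e => hπ p (𝟙 _) h hp repWith_id' (e.trans (Category.comp_id _).symm)) a ha
    (pullback.lift z₀ _ w) (pullback.lift_snd _ _ _)
  refine ⟨y ≫ pullback.fst f z, ?_, ?_⟩
  · rw [Category.assoc, pullback.condition, ← Category.assoc, hy₁, Category.id_comp]
  · rw [← Category.assoc, hy₂, pullback.lift_fst]

end Groth.Agent.HenselChart
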