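import Groth.Agent.SpQS.ConfQuot
import Groth.Agent.HenselChart.Count
import Groth.Agent.AlgSpLib.Cover
import Groth.Agent.AlgSpLib.FreeEtale

/-!
# Affine etale charts through henselian points of algebraic spaces
-/

set_option autoImplicit false
set_option backward.isDefEq.respectTransparency false
set_option backward.isDefEq.respectTransparency.types false
set_option linter.style.haveILetI false

universe u

open CategoryTheory CategoryTheory.Limits AlgebraicGeometry IsLocalRing

namespace Groth.Agent.HenselChart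

open _root_.AlgSp Groth.Agent.AlgSpLib Groth.Agent.SpQS

variable {S : Scheme.{u}}

/-- maps of sheaves which become etale after an etale surjection of schemes are etale -/
theorem repWith_etale_of_cover {X : Sp S} (hX : IsAlgSpace X) {C V : Over S} (q : C ⟶ V) [Etale q.left]
    [Surjective q.left] (f : (yon S).obj V ⟶ X) (h : RepWith @Etale ((yon S).map q ≫ f)) : RepWith @Etale f := by
  refine ⟨hX.representable_from_yon f, fun T P ξ a b sq => ?_⟩
  obtain ⟨a, rfl⟩ := exists_map_eq a
  let Q : Over S := Over.mk (pullback.snd q.left a.left ≫ P.hom)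
  let u : Q ⟶ C := Over.homMk (pullback.fst q.left a.left) (by
    show pullback.fst q.left a.left ≫ C.hom = pullback.snd q.left a.left ≫ P.hom
    rw [← Over.w q, pullback.condition_assoc, Over.w a])
  let v : Q ⟶ P := Over.homMk (pullback.snd q.left a.left) rfl
  have sq₁ : IsPullback u.left v.left q.left a.left := IsPullback.of_hasPullback _ _
  have : Etale (v.left ≫ b.left) :=
    (repWith_yon_iff (v ≫ b)).1 (repWith_baseChange
      (show IsPullback ((yon S).map u) ((yon S).map (v ≫ b)) ((yon S).map q ≫ f) ξ from by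
        rw [Functor.map_comp]
        exact (isPullback_yon_iff.2 sq₁).paste_vert sq) h)
  have : Etale v.left := inferInstanceAs (Etale (pullback.snd q.left a.left))
  have : Surjective v.left := inferInstanceAs (Surjective (pullback.snd q.left a.left))
  exact SrcDesc.etale v.left b.left

variable (R : Type u) [CommRing R] [HenselianLocalRing R] (str : Spec (CommRingCat.of R) ⟶ S)

/-- an affine etale chart with a separated fibre over a given point through the closed point -/
theorem exists_chart_point {X : Sp S} (hX : IsAlgSpace X) (z : (yon S).obj (Over.mk str) ⟶ X) :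
    ∃ (W : Over S) (π : (yon S).obj W ⟶ X) (Y : Over S) (a : Y ⟶ W) (b : Y ⟶ Over.mk str) (y : Y.left),
      IsAffine W.left ∧ RepWith @Etale π ∧ IsPullback ((yon S).map a) ((yon S).map b) π z ∧
        Etale b.left ∧ IsSeparated b.left ∧ b.left y = closedPoint R := by
  obtain ⟨U, p, hp, hps⟩ := hX.atlas
  obtain ⟨Y₀, a₀, b₀, sq₀, hb₀⟩ := hX.exists_chart_pullback hps z
  obtain ⟨y₀, hy₀⟩ := b₀.left.surjective (closedPoint R)
  obtain ⟨A, hA, hyA, -⟩ := exists_isAffineOpen_mem_and_subset (U := ⊤) (x := a₀.left y₀) trivial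
  let W : Over S := Over.mk (A.ι ≫ U.hom)
  let j : W ⟶ U := Over.homMk A.ι rfl
  haveI : IsAffine W.left := hA
  have hπ : RepWith @Etale ((yon S).map j ≫ p) :=
    repWith_comp ((repWith_yon_iff j).2 (inferInstanceAs (Etale A.ι))) hp
  obtain ⟨Y, a, b, sq, hb⟩ := hX.exists_chart_pullback hπ z
  haveI : IsSeparated W.hom := by
    haveI : IsSeparated (W.hom ≫ terminal.from S) := inferInstance
    exact IsSeparated.of_comp W.hom (terminal.from S)
  haveI : IsSeparated b.left := by
    have hw : a.left ≫ W.hom = b.left ≫ str := (Over.w a).trans (Over.w b).symm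
    let j' : Y.left ⟶ pullback W.hom str := pullback.lift a.left b.left hw
    have : Mono j' := ⟨fun {T} g g' e => by
      have e₁ : g ≫ a.left = g' ≫ a.left := by simpa [j'] using congrArg (· ≫ pullback.fst W.hom str) e
      have e₂ : g ≫ b.left = g' ≫ b.left := by simpa [j'] using congrArg (· ≫ pullback.snd W.hom str) e
      let G : Over.mk (g ≫ Y.hom) ⟶ Y := Over.homMk g rfl
      let G' : Over.mk (g ≫ Y.hom) ⟶ Y := Over.homMk g' (by
        show g' ≫ Y.hom = g ≫ Y.hom
        rw [← Over.w a, reassoc_of% e₁])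
      have h : (yon S).map G = (yon S).map G' := sq.hom_ext
        (by rw [← Functor.map_comp, ← Functor.map_comp]; exact congrArg _ (Over.OverMorphism.ext e₁))
        (by rw [← Functor.map_comp, ← Functor.map_comp]; exact congrArg _ (Over.OverMorphism.ext e₂))
      exact congrArg (fun t => t.left) ((yon S).map_injective h)⟩
    rw [show b.left = j' ≫ pullback.snd W.hom str from (pullback.lift_snd _ _ hw).symm]
    infer_instance
  -- lift the point
  let k := (Y₀.left.residueField y₀)
  let t : Spec k ⟶ Y₀.left := Y₀.left.fromSpecResidueField y₀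
  have hr : Set.range (t ≫ a₀.left) ⊆ Set.range A.ι := by
    rintro - ⟨s, rfl⟩
    rw [Scheme.Opens.range_ι, Scheme.Hom.comp_apply]
    have : t s = y₀ := Set.mem_singleton_iff.1 (Scheme.range_fromSpecResidueField y₀ ▸ Set.mem_range_self s)
    rw [this]
    exact hyA
  let K : Over S := Over.mk (t ≫ Y₀.hom)
  let kA : K ⟶ W := Over.homMk (IsOpenImmersion.lift A.ι (t ≫ a₀.left) hr) (by
    show _ ≫ A.ι ≫ U.hom = t ≫ Y₀.hom
    rw [IsOpenImmersion.lift_fac_assoc, Category.assoc, Over.w a₀])
  let kY : K ⟶ Y₀ := Over.homMk t rfl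
  have hk : kA ≫ j = kY ≫ a₀ := Over.OverMorphism.ext (IsOpenImmersion.lift_fac _ _ _)
  obtain ⟨l, hl⟩ := exists_map_eq (sq.lift ((yon S).map kA) ((yon S).map (kY ≫ b₀)) (by
    rw [← Category.assoc, ← Functor.map_comp, hk, Functor.map_comp, Category.assoc, sq₀.w, Functor.map_comp,
      Category.assoc]))
  have hl' : l ≫ b = kY ≫ b₀ := (yon S).map_injective (by rw [Functor.map_comp, hl, sq.lift_snd])
  refine ⟨W, _, Y, a, b, l.left (closedPoint k), hA, hπ, sq, hb, inferInstance, ?_⟩
  have := congrArg (fun m : K ⟶ Over.mk str => m.left (closedPoint k)) hl'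
  refine this.trans ?_
  show b₀.left (t (closedPoint k)) = _
  rw [Scheme.fromSpecResidueField_apply, hy₀]

/-- henselian points of algebraic spaces factor through affine etale charts -/
theorem exists_affine_chart_lift {X : Sp S} (hX : IsAlgSpace X) (z : (yon S).obj (Over.mk str) ⟶ X) :
    ∃ (Z : Over S) (p : (yon S).obj Z ⟶ X) (g : Over.mk str ⟶ Z),
      IsAffine Z.left ∧ RepWith @Etale p ∧ (yon S).map g ≫ p = z := by
  classical
  obtain ⟨W, π, Y, a, b, y, hW, hπ, sq, hb, hbs, hy⟩ := exists_chart_point R str hX z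
  haveI := hW
  haveI : Etale b.left := hb
  haveI : IsSeparated b.left := hbs
  let T : Over S := Over.mk str
  -- the geometric sheets
  let Ω := AlgebraicClosure (ResidueField R)
  let ω : Spec (CommRingCat.of Ω) ⟶ Spec (CommRingCat.of R) :=
    Spec.map (CommRingCat.ofHom ((algebraMap (ResidueField R) Ω).comp (residue R)))
  have hω : ω (closedPoint Ω) = closedPoint R := by
    apply PrimeSpectrum.ext
    show Ideal.comap ((algebraMap (ResidueField R) Ω).comp (residue R)) (maximalIdeal Ω) = maximalIdeal R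
    rw [← Ideal.comap_comap, maximalIdeal_eq_bot, Ideal.comap_bot_of_injective _ (algebraMap (ResidueField R) Ω).injective]
    exact (RingHom.ker_eq_comap_bot _).symm.trans Ideal.mk_ker
  let L := {l : Spec (CommRingCat.of Ω) ⟶ Y.left // l ≫ b.left = ω ∧ l (closedPoint Ω) = y}
  haveI : IsAffine (Over.mk str).left := inferInstanceAs (IsAffine (Spec (CommRingCat.of R)))
  haveI : Finite L := finite_lifts b.left y ω
  haveI : Nonempty L := by
    obtain ⟨l, h₁, h₂⟩ := exists_lift_at b.left ω (hy.trans hω.symm)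
    exact ⟨⟨l, h₁, h₂⟩⟩
  obtain ⟨p, hp⟩ : ∃ p, Nat.card L = p + 1 := ⟨Nat.card L - 1, by have := Nat.card_pos (α := L); omega⟩
  let eL : L ≃ Fin (p + 1) := Finite.equivFinOfCardEq hp
  let K : Over S := Over.mk (ω ≫ str)
  let L' : Fin (p + 1) → (K ⟶ Y) := fun i => Over.homMk (eL.symm i).1 (by
    show (eL.symm i).1 ≫ Y.hom = ω ≫ str
    exact ((congrArg ((eL.symm i).1 ≫ ·) (Over.w b).symm).trans (Category.assoc _ _ _).symm).trans
      (congrArg (· ≫ str) (eL.symm i).2.1))
  let kω : K ⟶ T := Over.homMk ω rfl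
  have hLb : ∀ i, L' i ≫ b = kω := fun i => Over.OverMorphism.ext (eL.symm i).2.1
  obtain ⟨c⟩ := exists_conf hX hπ p
  have hcomm : ∀ i, (yon S).map (L' i ≫ a) ≫ π = (yon S).map kω ≫ z := fun i => by
    rw [Functor.map_comp, Category.assoc, sq.w, ← Category.assoc, ← Functor.map_comp, hLb]
  have hinj : ∀ (M : Over S) (x x' : M ⟶ Y), x ≫ a = x' ≫ a → x ≫ b = x' ≫ b → x = x' := fun M x x' e e' =>
    (yon S).map_injective (sq.hom_ext (by rw [← Functor.map_comp, ← Functor.map_comp, e])
      (by rw [← Functor.map_comp, ← Functor.map_comp, e']))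
  obtain ⟨l₀, hl₀⟩ := c.desc (fun i => L' i ≫ a) (fun i => (hcomm i).trans (hcomm 0).symm) (fun i i' hii F _ k e => by
    apply hii
    apply eL.symm.injective
    obtain ⟨φ, hφ⟩ := Spec.map_surjective k
    have e' : (L' i ≫ a).left = (L' i' ≫ a).left :=
      AlgSpLib.FreeEtale.spec_field_cancel φ (by rw [hφ]; exact e)
    exact Subtype.ext (congrArg (fun m : K ⟶ Y => m.left)
      (hinj K (L' i) (L' i') (Over.OverMorphism.ext e') (by rw [hLb, hLb]))))
  -- the configurations over the point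
  haveI := c.etale
  haveI := c.sep
  let Q : Over S := Over.mk (pullback.snd (c.pr 0).left a.left ≫ Y.hom)
  let aC : Q ⟶ c.C := Over.homMk (pullback.fst (c.pr 0).left a.left) (by
    show pullback.fst (c.pr 0).left a.left ≫ c.C.hom = pullback.snd (c.pr 0).left a.left ≫ Y.hom
    rw [← Over.w (c.pr 0), pullback.condition_assoc, Over.w a])
  let vY : Q ⟶ Y := Over.homMk (pullback.snd (c.pr 0).left a.left) rfl
  have sqQ : IsPullback aC.left vY.left (c.pr 0).left a.left := IsPullback.of_hasPullback _ _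
  have hQ : aC ≫ c.pr 0 = vY ≫ a := Over.OverMorphism.ext sqQ.w
  let bC : Q ⟶ T := vY ≫ b
  haveI : Etale bC.left := inferInstanceAs (Etale (pullback.snd (c.pr 0).left a.left ≫ b.left))
  haveI : IsSeparated bC.left := inferInstanceAs (IsSeparated (pullback.snd (c.pr 0).left a.left ≫ b.left))
  have hd : ∀ i, ∃ d : Q ⟶ Y, d ≫ a = aC ≫ c.pr i ∧ d ≫ b = bC := fun i => by
    have hw : (yon S).map (aC ≫ c.pr i) ≫ π = (yon S).map bC ≫ z := by
      rw [Functor.map_comp, Category.assoc, c.comm, ← Category.assoc, ← Functor.map_comp, hQ, Functor.map_comp,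
        Category.assoc, sq.w, ← Category.assoc, ← Functor.map_comp]
    obtain ⟨d, hd⟩ := exists_map_eq (sq.lift _ _ hw)
    exact ⟨d, (yon S).map_injective (by rw [Functor.map_comp, hd, sq.lift_fst]),
      (yon S).map_injective (by rw [Functor.map_comp, hd, sq.lift_snd])⟩
  choose d hda hdb using hd
  have hw₀ : l₀.left ≫ (c.pr 0).left = (L' 0).left ≫ a.left := congrArg (fun m : K ⟶ W => m.left) (hl₀ 0)
  let e₀ : Spec (CommRingCat.of Ω) ⟶ Q.left := pullback.lift l₀.left (L' 0).left hw₀
  let eK : K ⟶ Q := Over.homMk e₀ (by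
    show e₀ ≫ pullback.snd (c.pr 0).left a.left ≫ Y.hom = _
    rw [pullback.lift_snd_assoc]
    exact Over.w (L' 0))
  have heK₁ : eK ≫ aC = l₀ := Over.OverMorphism.ext (pullback.lift_fst _ _ _)
  have heK₂ : eK ≫ vY = L' 0 := Over.OverMorphism.ext (pullback.lift_snd _ _ _)
  have heb : eK ≫ bC = kω := by rw [← Category.assoc, heK₂, hLb]
  have hed : ∀ i, eK ≫ d i = L' i := fun i => hinj K _ _
    (by rw [Category.assoc, hda, ← Category.assoc, heK₁, hl₀])
    (by rw [Category.assoc, hdb, heb, hLb])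
  let e : Q.left := e₀ (closedPoint Ω)
  have hde : ∀ i, (d i).left e = y := fun i =>
    (congrArg (fun m : K ⟶ Y => m.left (closedPoint Ω)) (hed i)).trans (eL.symm i).2.2
  have hbe : bC.left e = closedPoint R :=
    (congrArg (fun m : K ⟶ T => m.left (closedPoint Ω)) heb).trans hω
  obtain ⟨hιo, -, hEfin, hEet, hEsurj⟩ := TwConst.main_local bC.left e hbe
  haveI := hEfin
  haveI := hEet
  haveI := hEsurj
  -- the local piece
  let ιE : Spec (Q.left.presheaf.stalk e) ⟶ Q.left := Q.left.fromSpecStalk e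
  let E : Over S := Over.mk (ιE ≫ Q.hom)
  let jE : E ⟶ Q := Over.homMk ιE rfl
  let bE : E ⟶ T := jE ≫ bC
  haveI : IsFinite bE.left := hEfin
  haveI : Etale bE.left := hEet
  haveI : Surjective bE.left := hEsurj
  obtain ⟨V, q, f, hqe, hqs, -, -, hqf, hperm⟩ := exists_confQuot hX c
  haveI := hqe
  haveI := hqs
  -- the map to the quotient is constant along the fibres of the local piece
  let P : Over S := Over.mk (pullback.fst bE.left bE.left ≫ E.hom)
  let p₁ : P ⟶ E := Over.homMk (pullback.fst bE.left bE.left) rfl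
  let p₂ : P ⟶ E := Over.homMk (pullback.snd bE.left bE.left) (by
    show pullback.snd bE.left bE.left ≫ E.hom = pullback.fst bE.left bE.left ≫ E.hom
    rw [← Over.w bE, pullback.condition_assoc])
  have hP : p₁ ≫ bE = p₂ ≫ bE := Over.OverMorphism.ext pullback.condition
  let x₁ : P ⟶ Q := p₁ ≫ jE
  let x₂ : P ⟶ Q := p₂ ≫ jE
  have hx : x₁ ≫ bC = x₂ ≫ bC := by simpa [x₁, x₂, bE] using hP
  have hagree : ∀ i i', (x₂ ≫ d i).left ≫ b.left = (x₁ ≫ d i').left ≫ b.left := fun i i' =>
    congrArg (fun m : P ⟶ T => m.left) (show (x₂ ≫ d i) ≫ b = (x₁ ≫ d i') ≫ b from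
      ((Category.assoc _ _ _).trans (congrArg (x₂ ≫ ·) (hdb i))).trans
        (hx.symm.trans ((Category.assoc _ _ _).trans (congrArg (x₁ ≫ ·) (hdb i'))).symm))
  let O : Equiv.Perm (Fin (p + 1)) → P.left.Opens := fun σ =>
    ⟨⋂ i, EtaleSections.eqLocus b.left _ _ (hagree i (σ i)),
      isOpen_iInter_of_finite fun i => EtaleSections.isOpen_eqLocus _ _ _ _⟩
  have hO : TopologicalSpace.IsOpenCover O := by
    refine TopologicalSpace.IsOpenCover.mk (eq_top_iff.2 fun w _ => ?_)
    haveI : IsFinite (pullback.fst bE.left bE.left) := MorphismProperty.pullback_fst (P := @IsFinite) _ _ ‹_›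
    haveI : IsFinite ((p₁ ≫ bE).left) := inferInstanceAs (IsFinite (pullback.fst bE.left bE.left ≫ bE.left))
    obtain ⟨w', hww, hw'⟩ := exists_specializes_closed (p₁ ≫ bE).left w
    suffices hσ : ∃ σ, w' ∈ O σ by
      obtain ⟨σ, hσ⟩ := hσ
      exact TopologicalSpace.Opens.mem_iSup.2 ⟨σ, hww.mem_open (O σ).isOpen hσ⟩
    haveI : Etale ((p₁ ≫ bE).left) := inferInstanceAs (Etale (pullback.fst bE.left bE.left ≫ bE.left))
    obtain ⟨g, hg, hgw⟩ := exists_lift_at (p₁ ≫ bE).left ω (hw'.trans hω.symm)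
    let gK : K ⟶ P := Over.homMk g (by
      show g ≫ P.hom = ω ≫ str
      rw [← Over.w (p₁ ≫ bE), reassoc_of% hg]
      rfl)
    have hgb : gK ≫ p₁ ≫ bE = kω := Over.OverMorphism.ext hg
    have hgb' : gK ≫ p₂ ≫ bE = kω := by rw [← hP]; exact hgb
    have hpt : ∀ {k : K ⟶ E}, k ≫ bE = kω → (k ≫ jE).left (closedPoint Ω) = e := by
      intro k hk
      have hc : bE.left (closedPoint (Q.left.presheaf.stalk e)) = closedPoint R := by
        show bC.left (ιE _) = _
        rw [Scheme.fromSpecStalk_closedPoint, hbe]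
      have : k.left (closedPoint Ω) = closedPoint (Q.left.presheaf.stalk e) := eq_closedPoint bE.left hc _
        ((congrArg (fun m : K ⟶ T => m.left (closedPoint Ω)) hk).trans hω)
      show ιE (k.left (closedPoint Ω)) = e
      rw [this, Scheme.fromSpecStalk_closedPoint]
    have hlift : ∀ {k : K ⟶ E}, k ≫ bE = kω → ∃ τ : Fin (p + 1) → Fin (p + 1), Function.Injective τ ∧
        ∀ i, k ≫ jE ≫ d i = L' (τ i) := by
      intro k hk
      have hmem : ∀ i, (k ≫ jE ≫ d i).left ≫ b.left = ω ∧ (k ≫ jE ≫ d i).left (closedPoint Ω) = y := fun i =>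
        ⟨congrArg (fun m : K ⟶ T => m.left) (show (k ≫ jE ≫ d i) ≫ b = kω by
          rw [Category.assoc, Category.assoc, hdb]; exact hk),
          (congrArg (d i).left (hpt hk)).trans (hde i)⟩
      refine ⟨fun i => eL ⟨_, hmem i⟩, fun i i' h => ?_, fun i => Over.OverMorphism.ext (by
        show _ = (eL.symm (eL ⟨_, hmem i⟩)).1
        rw [Equiv.symm_apply_apply])⟩
      by_contra hii
      have h' : (k ≫ jE ≫ d i).left = (k ≫ jE ≫ d i').left := congrArg Subtype.val (eL.injective h)
      refine c.ne i i' hii Ω (k ≫ jE ≫ aC).left ?_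
      have := congrArg (· ≫ a.left) h'
      have ea : ∀ i, (k ≫ jE ≫ d i).left ≫ a.left = (k ≫ jE ≫ aC).left ≫ (c.pr i).left := fun i =>
        congrArg (fun m : K ⟶ W => m.left) (show (k ≫ jE ≫ d i) ≫ a = (k ≫ jE ≫ aC) ≫ c.pr i by
          simp only [Category.assoc, hda])
      rwa [ea, ea] at this
    obtain ⟨τ₁, hτ₁, e₁⟩ := hlift (k := gK ≫ p₁) (by rw [Category.assoc]; exact hgb)
    obtain ⟨τ₂, hτ₂, e₂⟩ := hlift (k := gK ≫ p₂) (by rw [Category.assoc]; exact hgb')
    let E₁ := Equiv.ofBijective τ₁ (Finite.injective_iff_bijective.1 hτ₁)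
    let σ : Equiv.Perm (Fin (p + 1)) := (Equiv.ofBijective τ₂ (Finite.injective_iff_bijective.1 hτ₂)).trans E₁.symm
    refine ⟨σ, Set.mem_iInter.2 fun i => ?_⟩
    refine EtaleSections.range_subset_eqLocus b.left _ _ (hagree i (σ i)) g ?_ ⟨closedPoint Ω, hgw⟩
    refine congrArg (fun m : K ⟶ Y => m.left) (show gK ≫ x₂ ≫ d i = gK ≫ x₁ ≫ d (σ i) from ?_)
    have h₂ : gK ≫ x₂ ≫ d i = L' (τ₂ i) := by simpa [x₂] using e₂ i
    have h₁ : gK ≫ x₁ ≫ d (σ i) = L' (τ₁ (σ i)) := by simpa [x₁] using e₁ (σ i)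
    have hσ : τ₁ (σ i) = τ₂ i := E₁.apply_symm_apply (τ₂ i)
    rw [h₂, h₁, hσ]
  have key : x₁ ≫ aC ≫ q = x₂ ≫ aC ≫ q := by
    refine Over.OverMorphism.ext ((P.left.openCoverOfIsOpenCover O hO).hom_ext _ _ fun (σ : Equiv.Perm (Fin (p + 1))) => ?_)
    let Pσ : Over S := Over.mk ((O σ).ι ≫ P.hom)
    let jσ : Pσ ⟶ P := Over.homMk (O σ).ι rfl
    have h := hperm (jσ ≫ x₁ ≫ aC) (jσ ≫ x₂ ≫ aC) σ fun i => by
      have h1 : jσ ≫ x₂ ≫ d i = jσ ≫ x₁ ≫ d (σ i) := Over.OverMorphism.ext
        (EtaleSections.eq_of_range_subset_eqLocus b.left _ _ (hagree i (σ i)) (O σ).ι (by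
          rw [Scheme.Opens.range_ι]; exact Set.iInter_subset _ i))
      have := congrArg (· ≫ a) h1
      simpa [hda] using this
    exact congrArg (fun m : Pσ ⟶ V => m.left) (by simpa using h)
  obtain ⟨β, hβ⟩ := exists_desc bE ((yon S).map (jE ≫ aC ≫ q)) fun M r r' err => by
    rw [← Functor.map_comp, ← Functor.map_comp]
    congr 1
    let m : M ⟶ P := Over.homMk (pullback.lift r.left r'.left (congrArg (fun s : M ⟶ T => s.left) err)) (by
      show _ ≫ pullback.fst bE.left bE.left ≫ E.hom = _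
      rw [pullback.lift_fst_assoc]; exact Over.w r)
    have m₁ : m ≫ p₁ = r := Over.OverMorphism.ext (pullback.lift_fst _ _ _)
    have m₂ : m ≫ p₂ = r' := Over.OverMorphism.ext (pullback.lift_snd _ _ _)
    rw [← m₁, ← m₂, Category.assoc, Category.assoc]
    exact congrArg (m ≫ ·) (by simpa [x₁, x₂] using key)
  obtain ⟨g, rfl⟩ := exists_map_eq β
  have hfe : RepWith @Etale f := repWith_etale_of_cover hX q f (by
    rw [hqf]; exact repWith_comp ((repWith_yon_iff _).2 c.etale) hπ)
  have hgz : (yon S).map g ≫ f = z := by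
    have := epi_yon_map bE
    rw [← cancel_epi ((yon S).map bE), ← Category.assoc, hβ, Functor.map_comp, Functor.map_comp, Category.assoc,
      Category.assoc, hqf, ← Category.assoc ((yon S).map aC), ← Functor.map_comp, hQ, Functor.map_comp, Category.assoc, sq.w]
    simp only [bE, bC, Functor.map_comp, Category.assoc]
  -- an affine open through the closed point
  obtain ⟨A, hA, hgA, -⟩ := exists_isAffineOpen_mem_and_subset (U := ⊤) (x := g.left (closedPoint R)) trivial
  have hr : Set.range g.left ⊆ Set.range A.ι := by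
    rintro - ⟨s, rfl⟩
    rw [Scheme.Opens.range_ι]
    exact ((IsLocalRing.specializes_closedPoint (R := R) s).map g.left.continuous).mem_open A.isOpen hgA
  let Z : Over S := Over.mk (A.ι ≫ V.hom)
  let jA : Z ⟶ V := Over.homMk A.ι rfl
  let g' : T ⟶ Z := Over.homMk (IsOpenImmersion.lift A.ι g.left hr) (by
    show _ ≫ A.ι ≫ V.hom = _
    rw [IsOpenImmersion.lift_fac_assoc]; exact Over.w g)
  refine ⟨Z, (yon S).map jA ≫ f, g', hA,
    repWith_comp ((repWith_yon_iff jA).2 (inferInstanceAs (Etale A.ι))) hfe, ?_⟩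
  rw [← Category.assoc, ← Functor.map_comp, show g' ≫ jA = g from Over.OverMorphism.ext (IsOpenImmersion.lift_fac _ _ _), hgz]

end Groth.Agent.HenselChart
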