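import Groth.Agent.HenselChart.Lift
import Groth.Agent.AlgStLib.Rep
import Groth.Agent.AlgStLib.Calc
import Groth.Prelude.Def_AlgSt3

/-!
# Lifting points along smooth maps from algebraic spaces to algebraic stacks
-/

set_option autoImplicit false
set_option backward.isDefEq.respectTransparency false
set_option backward.isDefEq.respectTransparency.types false
set_option linter.style.haveILetI false

universe u

open CategoryTheory CategoryTheory.Limits AlgebraicGeometry Opposite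

noncomputable section

namespace Groth.Agent.HenselChart

open Groth.Agent.FibCatRep Groth.Agent.FibCat2Misc Groth.Agent.AlgSpLib Groth.Agent.AlgStLib Groth.Agent.StkBasic
open _root_.AlgSp _root_.AlgSt

variable {S : Scheme.{u}}

theorem exists_space_lift {𝒵 : AlgSt.Cat S} {Z : AlgSp.Space S} (f : AlgSt.ofSp Z.obj ⥤ᵇ 𝒵)
    (hf : RepByAlgSpWith (LocP @Smooth) f) (R : Type u) [CommRing R] [HenselianLocalRing R]
    (str : Spec (CommRingCat.of R) ⟶ S) (a : Ideal R) (ha : a ≠ ⊤)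
    (z : FibCat.overCat (Over.mk str) ⥤ᵇ 𝒵)
    (z₀ : (yon S).obj (Over.mk (Spec.map (CommRingCat.ofHom (Ideal.Quotient.mk a)) ≫ str)) ⟶ Z.obj)
    (w : BasedFunctor.comp (BasedFunctor.comp (ofOverCat (Over.mk (Spec.map (CommRingCat.ofHom (Ideal.Quotient.mk a)) ≫ str)))
        (ofSpMap z₀)) f ≅
      BasedFunctor.comp (overMap (Over.homMk (Spec.map (CommRingCat.ofHom (Ideal.Quotient.mk a))) rfl :
        Over.mk (Spec.map (CommRingCat.ofHom (Ideal.Quotient.mk a)) ≫ str) ⟶ Over.mk str)) z) :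
    ∃ z' : (yon S).obj (Over.mk str) ⟶ Z.obj,
      (yon S).map (Over.homMk (Spec.map (CommRingCat.ofHom (Ideal.Quotient.mk a))) rfl :
        Over.mk (Spec.map (CommRingCat.ofHom (Ideal.Quotient.mk a)) ≫ str) ⟶ Over.mk str) ≫ z' = z₀ ∧
        Nonempty (BasedFunctor.comp (BasedFunctor.comp (ofOverCat (Over.mk str)) (ofSpMap z')) f ≅ z) := by
  let T : Over S := Over.mk str
  let q : Over S := Over.mk (Spec.map (CommRingCat.ofHom (Ideal.Quotient.mk a)) ≫ str)
  let j : q ⟶ T := Over.homMk (Spec.map (CommRingCat.ofHom (Ideal.Quotient.mk a))) rfl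
  obtain ⟨F, e, he, hπ⟩ := hf T z
  obtain ⟨k, -, -, ⟨ik⟩⟩ := isEquivOver_symm he
  let L : ofSch q ⥤ᵇ FibCat.fp z f :=
    FibCat.fpLift (BasedFunctor.comp (toOverCat q) (overMap j)) (ofSpMap z₀)
      ((Stk.restr (toOverCat q) 𝒵).mapIso w).symm
  let L' : ofSch q ⥤ᵇ ofSp F.obj := BasedFunctor.comp L k
  have i₁ : BasedFunctor.comp L' e ≅ L := (Stk.restr L _).mapIso ik
  let y₀ : (yon S).obj q ⟶ F.obj := ObjectProperty.homMk (mapOf L')
  let π := spMapOfOver (BasedFunctor.comp e (FibCat.fpFst z f))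
  have hy : y₀ ≫ π = (yon S).map j := by
    refine ObjectProperty.hom_ext _ ?_
    show mapOf L' ≫ π.hom = _
    rw [spMapOfOver_hom, ← mapOf_comp, mapOf_congr (show BasedFunctor.comp L'
        (BasedFunctor.comp (BasedFunctor.comp e (FibCat.fpFst z f)) (ofOverCat T)) ≅
      BasedFunctor.comp L (BasedFunctor.comp (FibCat.fpFst z f) (ofOverCat T)) from
        (post _ (BasedFunctor.comp (FibCat.fpFst z f) (ofOverCat T))).mapIso i₁)]
    ext U x
    rfl
  obtain ⟨y, hy₁, hy₂⟩ := exists_lift R str F.property π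
    (fun W p h hp e' => hπ p (𝟙 _) h hp repWith_id' (e'.trans (Category.comp_id _).symm)) a ha y₀ hy
  let σ : F.obj ⟶ Z.obj := ObjectProperty.homMk (mapOf (BasedFunctor.comp e (FibCat.fpSnd z f)))
  refine ⟨y ≫ σ, ?_, ?_⟩
  · rw [← Category.assoc, hy₂]
    refine ObjectProperty.hom_ext _ ?_
    show mapOf L' ≫ mapOf _ = z₀.hom
    rw [← mapOf_comp, mapOf_congr (show BasedFunctor.comp L' (BasedFunctor.comp e (FibCat.fpSnd z f)) ≅
      BasedFunctor.comp L (FibCat.fpSnd z f) from (post _ (FibCat.fpSnd z f)).mapIso i₁)]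
    exact mapOf_ofPshMap z₀.hom
  · let Y : ofSch T ⥤ᵇ ofSp F.obj := ofSpMap y
    have hσ : ofSpMap (y ≫ σ) ≅ BasedFunctor.comp Y (BasedFunctor.comp e (FibCat.fpSnd z f)) :=
      
        (Classical.choice (mapOfComp_ofPshMap y.hom σ.hom)).symm ≪≫
          (Stk.restr Y _).mapIso (mapOfIso _)
    have hπY : mapOf (BasedFunctor.comp Y (BasedFunctor.comp (BasedFunctor.comp e (FibCat.fpFst z f)) (ofOverCat T))) =
        𝟙 _ := by
      rw [mapOf_comp, mapOf_ofPshMap, ← spMapOfOver_hom]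
      exact congrArg (fun m => m.hom) hy₁
    have h₁ : BasedFunctor.comp Y (BasedFunctor.comp (BasedFunctor.comp e (FibCat.fpFst z f)) (ofOverCat T)) ≅
        BasedFunctor.id _ := (mapOfIso _).symm ≪≫ eqToIso (congrArg Stk.ofPshMap (hπY.trans mapOf_id.symm)) ≪≫ mapOfIso _
    refine ⟨(post _ f).mapIso ((Stk.restr (ofOverCat T) _).mapIso hσ) ≪≫ ?_⟩
    refine (Stk.restr (BasedFunctor.comp (BasedFunctor.comp (ofOverCat T) Y) e) 𝒵).mapIso (FibCat.fpIso z f).symm ≪≫ ?_
    exact (post _ z).mapIso ((Stk.restr (ofOverCat T) _).mapIso ((post _ (toOverCat T)).mapIso h₁))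

end Groth.Agent.HenselChart

end
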